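import Cfsg.Agent.H308.Car.E6Fields
import Cfsg.Agent.H346.Car.SixTw

/-!
# The row `²E₆(q)` of S3852
-/

set_option autoImplicit false

namespace Cfsg.Agent.H308.Car

open Subgroup Cfsg Cfsg.Lie
open Cfsg.Agent.Solvable.Carter Cfsg.Agent.H18.Carter Cfsg.Agent.H381.Car Cfsg.Agent.H607.Car

universe u

/-- **the field `te6`** -/
theorem te6_field (hFp : Fpf.{u}) (hFT : Cfsg.Agent.H460.Car.FT.{u}) (hE : Cfsg.Agent.H460.Car.ExcOk.{u})
    (G : Type u) [Group G] [Finite G] (S : Subgroup G) [S.Normal] (c : Ctx G S) (IH : IHr G) (K : Type) [Field K]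
    [Fintype K] (q : ℕ) (hq : IsPrimePow q) (hK : Fintype.card K = q ^ 2)
    (he : Nonempty (↥S ≃* ↥(twistedE6 K q))) : Row G S :=
  te6_field_of (fun K _ _ q hq ho hK => Cfsg.Agent.H346.CarB.six_tw K q hq ho hK) hFp hFT hE G S c IH K q hq hK he

end Cfsg.Agent.H308.Car
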