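import Cfsg.Agent.H381.Car.RowE6
import Cfsg.Agent.H381.Car.E6Aut
import Cfsg.Agent.H321.Car.AutTw
import Cfsg.Agent.H310.Car.E6Even
import Cfsg.Agent.H310.Car.InvZ
import Cfsg.Agent.H607.Car.E6Good
import Cfsg.Agent.H518.Carter.SixSplit
import Cfsg.Agent.H518.Carter.SixT0
import Cfsg.Agent.H479.Car.LiftThree
import Cfsg.Agent.H298.Car.LiftSt
import Cfsg.Agent.H502.E6.ReflZ
import Cfsg.Agent.H460.Car.Bridge
import Cfsg.Agent.H607.Car.E6Inst
import Cfsg.Agent.H129.Car.Conn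
import Cfsg.Agent.H943.Car.ThreeFin
import Cfsg.Agent.H482.Car.InvCl

/-!
# The rows `E₆^ε(q)` of S3852 from the statements of `E6Def`
-/

set_option autoImplicit false
set_option linter.unusedSectionVars false
set_option linter.unusedVariables false
set_option linter.style.haveILetI false

namespace Cfsg.Agent.H308.Car

open Subgroup Cfsg Cfsg.Lie Cfsg.Lie.ChevalleyDatum
open Cfsg.Agent.GpExc.Field (glMap emb coe_emb glMap_xG emb_injective coe_glMap)
open Cfsg.Agent.BpExc Cfsg.Agent.BpExc.FamUntw Cfsg.Agent.BpExc.FamInst Cfsg.Agent.BpExc.RowsUntw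
open Cfsg.Agent.BpExc.Tow Cfsg.Agent.BpExc.LangFr Cfsg.Agent.H720.TwFr
open Cfsg.Agent.Solvable.Carter Cfsg.Agent.H18.Carter Cfsg.Agent.H381.Car Cfsg.Agent.H607.Car

universe u

variable {G : Type u} [Group G] [Finite G] {S : Subgroup G} [S.Normal]

/-- T1, T1', T2a, T5 -/
theorem good {r n : ℕ} [Fact r.Prime] {ε : ℤ} {X : Type} [Group X] {ι : X →* Yb r} {σ : MulAut (Yb r)}
    (h : Six r n ε ι σ) (hC : ConnSt r ι σ) (hT : ThreeSt r n ε ι) : GoodSt r n ε ι σ :=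
  goodSt h Cfsg.Agent.H298.Car.liftSt Cfsg.Agent.H479.Car.liftThreeSt Cfsg.Agent.H502.E6.reflZ hC hT

/-- `E₆(q)` -/
theorem row_untw (hFp : Fpf.{u}) (hFT : Cfsg.Agent.H460.Car.FT.{u}) (hE : Cfsg.Agent.H460.Car.ExcOk.{u}) (c : Ctx G S)
    (IH : IHr G) {r n : ℕ} [Fact r.Prime] {F : Type} [Field F] [Fintype F] [CharP F r] (f : F →+* Kb r)
    {σ : MulAut (Yb r)} (h : Six r n 1 (emb e6T.inList f) σ) (hC : ConnSt r (emb e6T.inList f) σ)
    (hT : ThreeSt r n 1 (emb e6T.inList f)) (hcl : r ≠ 2 → InvCl ↥(chevE6.group F) (H518.Carter.SixSplit.t0 F))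
    (e : S ≃* ↥(chevE6.group F)) : Row G S := by
  by_cases h2 : r = 2
  · subst h2
    exact (H310.E6.row_e6_even hFp hFT hE c IH (H310.E6.ocSt h (good h hC hT)) e).row c
      (Cfsg.Agent.H460.Car.even_of_ctx hFT c)
  · exact row_E6_of hFp c h2 e (H310.E6.invZ h h2 (good h hC hT) (autSt_e6 r f)) (hcl h2)
      (H518.Carter.SixSplit.sixJ (F := F) (p := r) h2)

/-- `²E₆(q)` -/
theorem row_tw (hFp : Fpf.{u}) (hFT : Cfsg.Agent.H460.Car.FT.{u}) (hE : Cfsg.Agent.H460.Car.ExcOk.{u}) (c : Ctx G S)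
    (IH : IHr G) {r n : ℕ} [Fact r.Prime] {K : Type} [Field K] [Fintype K] [CharP K r] (f : K →+* Kb r) {q : ℕ}
    (hn : q = r ^ n) (hq : IsPrimePow q) (hK : Fintype.card K = q ^ 2)
    {σ : MulAut (Yb r)} (h : Six r n (-1) (em6 q f) σ) (hC : ConnSt r (em6 q f) σ)
    (hT : ThreeSt r n (-1) (em6 q f))
    (hcl : r ≠ 2 → ∃ t0, InvCl ↥(twistedE6 K q) t0 ∧ SixJ ↥(twistedE6 K q) t0)
    (e : S ≃* ↥(twistedE6 K q)) : Row G S := by
  by_cases h2 : r = 2
  · subst h2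
    exact (H310.E6.row_twe6_even hFp hFT hE c IH hq hK (H310.E6.ocSt h (good h hC hT)) e).row c
      (Cfsg.Agent.H460.Car.even_of_ctx hFT c)
  · obtain ⟨t0, h3, h4⟩ := hcl h2
    exact row_TwE6_of hFp c hq hK h2 e (H310.E6.invZ h h2 (good h hC hT) (H321.Car.autSt_tw f hn hq hK)) h3 h4

/-- the class of `SixJ` consists of involutions -/
theorem six_order {X : Type} [Group X] {t0 : X} (h : SixJ X t0) : orderOf t0 = 2 := by
  obtain ⟨p, hp, hp2, E, i1, i2, hE, hch, j, hj, hα, hcm, hd⟩ := h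
  obtain ⟨d, hdd⟩ : ∃ d : CA.SU (Fin 6) E, H308.CA.mt d =
      Matrix.diagonal (fun i : Fin 6 => if (i : ℕ) < 2 then (-1 : E) else 1) := by
    refine ⟨H308.CA.mkSU (Matrix.diagonal (fun i : Fin 6 => if (i : ℕ) < 2 then (-1 : E) else 1)) ?_ ?_, rfl⟩
    · rw [Matrix.star_eq_conjTranspose, Matrix.diagonal_conjTranspose, Matrix.diagonal_mul_diagonal,
        ← Matrix.diagonal_one]
      congr 1
      funext i
      rw [Pi.star_apply]
      split_ifs <;> simp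
    · rw [Matrix.det_diagonal, Fin.prod_univ_six]
      simp
  have hd2 : d ^ 2 = 1 := by
    apply H308.CA.mt_injective
    rw [map_pow, hdd, map_one, Matrix.diagonal_pow, ← Matrix.diagonal_one]
    congr 1
    funext i
    rw [Pi.pow_apply]
    split_ifs <;> simp
  obtain ⟨h1, h2⟩ := hd d hdd
  obtain ⟨x, hx⟩ := isConj_iff.1 h1
  haveI : Fact (Nat.Prime 2) := ⟨Nat.prime_two⟩
  refine orderOf_eq_prime ?_ ?_
  · rw [← hx, conj_pow, ← map_pow, hd2, map_one, mul_one, mul_inv_cancel]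
  · intro h3
    apply h2
    have h4 : j d = x⁻¹ * t0 * x := by rw [← hx]; group
    rw [h4, h3, mul_one, inv_mul_cancel]

/-- a finite field embeds into the algebraic closure of its prime field -/
theorem exists_hom {F : Type} [Field F] [Fintype F] (r : ℕ) [Fact r.Prime] [CharP F r] : Nonempty (F →+* Kb r) := by
  let _ : Algebra (ZMod r) F := ZMod.algebra F r
  exact ⟨(IsAlgClosed.lift (R := ZMod r) (M := Kb r) (S := F)).toRingHom⟩

/-- **the field `e6`** -/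
theorem e6_field (hFp : Fpf.{u}) (hFT : Cfsg.Agent.H460.Car.FT.{u}) (hE : Cfsg.Agent.H460.Car.ExcOk.{u})
    (G : Type u) [Group G] [Finite G] (S : Subgroup G) [S.Normal] (c : Ctx G S) (IH : IHr G) (F : Type) [Field F]
    [Fintype F] (he : Nonempty (↥S ≃* ↥(chevE6.group F))) : Row G S := by
  obtain ⟨e⟩ := he
  obtain ⟨r, hr⟩ := CharP.exists F
  obtain ⟨n, hrp, hcard⟩ := FiniteField.card F r
  haveI : Fact r.Prime := ⟨hrp⟩
  obtain ⟨f⟩ := exists_hom (F := F) r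
  have h := six_untw (n := n) f n.pos hcard
  refine row_untw hFp hFT hE c IH f h (H129.Car.conn_split f n.pos hcard) (H943.Car.ThreeFin.threeSt_untw f hcard h)
    (fun h2 => ?_) e
  refine H482.Car.invCl_E6 ?_ (H518.Carter.SixSplit.orderOf_t0 r h2)
  rw [hcard]
  exact (hrp.odd_of_ne_two h2).pow

/-- **the field `te6`** (`h9` : T9 for the twisted groups) -/
theorem te6_field_of (h9 : ∀ (K : Type) [Field K] [Fintype K] (q : ℕ), IsPrimePow q → Odd q → Fintype.card K = q ^ 2 →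
      ∃ t0, SixJ ↥(twistedE6 K q) t0)
    (hFp : Fpf.{u}) (hFT : Cfsg.Agent.H460.Car.FT.{u}) (hE : Cfsg.Agent.H460.Car.ExcOk.{u})
    (G : Type u) [Group G] [Finite G] (S : Subgroup G) [S.Normal] (c : Ctx G S) (IH : IHr G) (K : Type) [Field K]
    [Fintype K] (q : ℕ) (hq : IsPrimePow q) (hK : Fintype.card K = q ^ 2)
    (he : Nonempty (↥S ≃* ↥(twistedE6 K q))) : Row G S := by
  obtain ⟨e⟩ := he
  obtain ⟨r, hr⟩ := CharP.exists K
  obtain ⟨m, hrp, hcard⟩ := FiniteField.card K r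
  haveI : Fact r.Prime := ⟨hrp⟩
  obtain ⟨f⟩ := exists_hom (F := K) r
  obtain ⟨r', n, hr', hn0, hqn⟩ := hq
  have hrr : r' = r := by
    have h1 : r' ∣ r ^ (m : ℕ) := by
      rw [← hcard, hK, ← hqn, ← pow_mul]
      exact dvd_pow_self r' (by positivity)
    exact (Nat.prime_dvd_prime_iff_eq hr'.nat_prime hrp).1 (hr'.nat_prime.dvd_of_dvd_pow h1)
  subst hrr
  have hn : q = r' ^ n := hqn.symm
  have hq' : IsPrimePow q := ⟨r', n, hr', hn0, hqn⟩
  have h := six_tw f hn0 hn hK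
  refine row_tw hFp hFT hE c IH f hn hq' hK h (H129.Car.conn_tw f hn0 hn hK) (H943.Car.ThreeFin.threeSt_tw f hn hK h)
    (fun h2 => ?_) e
  have hodd : Odd q := by
    rw [hn]
    exact (hrp.odd_of_ne_two h2).pow
  obtain ⟨t0, h0⟩ := h9 K q hq' hodd hK
  exact ⟨t0, H482.Car.invCl_twE6 hq' hodd hK (six_order h0), h0⟩

end Cfsg.Agent.H308.Car
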