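import Cfsg.Agent.H308.Car.NoSix
import Cfsg.Agent.H607.Car.E6Def
import Cfsg.Agent.H381.Car.EvenOne
import Cfsg.Agent.H18.Carter.Frame
import Cfsg.Agent.Lib.NilpotentCoprime

/-!
# The rows `E₆^ε(q)`, `q` odd, from the properties of the finite group (S3852)
-/

set_option autoImplicit false
set_option linter.unusedSectionVars false
set_option linter.unusedVariables false
set_option linter.style.haveILetI false

namespace Cfsg.Agent.H308.Car

open Subgroup Pointwise
open Cfsg.Agent.Solvable.Carter Cfsg.Agent.H18.Carter Cfsg.Agent.H381.Car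

universe u

section

/-- the Sylow `2`-subgroup of a nilpotent group contains the `2`-elements -/
theorem mem_sylow_of_nil {K : Type*} [Group K] [Finite K] [hK : Group.IsNilpotent K] {p : ℕ} [hp : Fact p.Prime]
    (P : Sylow p K) {y : K} {a : ℕ} (hy : y ^ p ^ a = 1) : y ∈ (P : Subgroup K) := by
  have hPn : (P : Subgroup K).Normal := by
    have h := ((Group.isNilpotent_of_finite_tfae (G := K)).out 0 3).mp hK
    exact h p hp P
  have h1 : IsPGroup p (zpowers y) := by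
    rintro ⟨x, hx⟩
    obtain ⟨k, rfl⟩ := mem_zpowers_iff.1 hx
    refine ⟨a, Subtype.ext ?_⟩
    change (y ^ k) ^ p ^ a = 1
    rw [← zpow_natCast, ← zpow_mul, mul_comm, zpow_mul, zpow_natCast, hy, one_zpow]
  obtain ⟨R, hR⟩ := h1.exists_le_sylow
  obtain ⟨g, hg⟩ := MulAction.exists_smul_eq K P R
  have h2 : y ∈ (R : Subgroup K) := hR (mem_zpowers y)
  rw [← hg, Sylow.coe_subgroup_smul, mem_conj_smul_iff] at h2
  have := hPn.conj_mem _ h2 g
  simpa [mul_assoc] using this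

/-- the odd part and the `2`-part of an element -/
theorem exists_parts {K : Type*} [Group K] [Finite K] (k : K) :
    ∃ x y : K, k = x * y ∧ x ∈ zpowers k ∧ y ∈ zpowers k ∧ Odd (orderOf x) ∧ ∃ a, y ^ 2 ^ a = 1 := by
  obtain ⟨a, b, hb, hab⟩ := Nat.exists_eq_two_pow_mul_odd (orderOf_pos k).ne'
  have hco : IsCoprime ((2 ^ a : ℕ) : ℤ) (b : ℤ) := by
    rw [Nat.isCoprime_iff_coprime]
    exact Nat.Coprime.pow_left a (Nat.coprime_two_left.2 hb)
  obtain ⟨u, v, huv⟩ := hco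
  refine ⟨k ^ (u * (2 ^ a : ℕ)), k ^ (v * b), ?_, zpow_mem (mem_zpowers k) _, zpow_mem (mem_zpowers k) _, ?_, a, ?_⟩
  · rw [← zpow_add, huv, zpow_one]
  · refine Odd.of_dvd_nat hb (orderOf_dvd_of_pow_eq_one ?_)
    rw [← zpow_natCast, ← zpow_mul]
    have : u * (2 ^ a : ℕ) * (b : ℤ) = (orderOf k : ℤ) * u := by
      rw [hab]; push_cast; ring
    rw [this, zpow_mul, zpow_natCast, pow_orderOf_eq_one, one_zpow]
  · rw [← zpow_natCast, ← zpow_mul]
    have : v * b * ((2 ^ a : ℕ) : ℤ) = (orderOf k : ℤ) * v := by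
      rw [hab]; push_cast; ring
    rw [this, zpow_mul, zpow_natCast, pow_orderOf_eq_one, one_zpow]

variable {G : Type u} [Group G] [Finite G] {S : Subgroup G} [S.Normal]

/-- an involution of `S` centralised by the elements of odd order of the Carter subgroup `K` -/
theorem even_of_fix {K : Subgroup G} (hK : IsCarter K) {a : G} (haS : a ∈ S) (ha2 : orderOf a = 2)
    (h : ∀ k ∈ K, Odd (orderOf k) → k * a = a * k) : 2 ∣ Nat.card ↥(K ⊓ S) := by
  haveI : Fact (Nat.Prime 2) := ⟨Nat.prime_two⟩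
  haveI := hK.1
  set H : Subgroup G := centralizer {k | k ∈ K ∧ Odd (orderOf k)} with hH
  obtain ⟨P⟩ : Nonempty (Sylow 2 K) := inferInstance
  set P' : Subgroup G := (P : Subgroup K).map K.subtype with hP'
  have hP'K : P' ≤ K := map_subtype_le _
  have hmem : ∀ {y : G} {m : ℕ}, y ∈ K → y ^ 2 ^ m = 1 → y ∈ P' := by
    intro y m hy h1
    exact ⟨⟨y, hy⟩, mem_sylow_of_nil P (a := m) (Subtype.ext h1), rfl⟩
  have hP'p : ∀ y ∈ P', ∃ m : ℕ, y ^ 2 ^ m = 1 := by
    rintro y ⟨x, hx, rfl⟩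
    obtain ⟨m, hm⟩ := P.2 ⟨x, hx⟩
    exact ⟨m, congrArg (fun z : (P : Subgroup K) => ((z : K) : G)) hm⟩
  have hP'H : P' ≤ H := by
    intro y hy
    rw [hH, mem_centralizer_iff]
    rintro k ⟨hk, hko⟩
    obtain ⟨m, hm⟩ := hP'p y hy
    have h1 : Commute (⟨k, hk⟩ : K) ⟨y, hP'K hy⟩ := by
      refine Cfsg.Agent.Lib.NilpotentCoprime.commute_of_pow_eq_one (m := orderOf k) (n := 2 ^ m) ?_
        (Subtype.ext (pow_orderOf_eq_one k)) (Subtype.ext hm)
      exact Nat.Coprime.pow_right m (Nat.coprime_two_right.2 hko)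
    exact congrArg Subtype.val h1.eq
  set Q : Subgroup H := P'.subgroupOf H with hQ
  have hQp : IsPGroup 2 Q := by
    rintro ⟨x, hx⟩
    obtain ⟨m, hm⟩ := hP'p x (mem_subgroupOf.1 hx)
    exact ⟨m, Subtype.ext (Subtype.ext hm)⟩
  obtain ⟨R, hR⟩ := hQp.exists_le_sylow
  have hQR : Q = R := by
    by_contra hne
    haveI : Group.IsNilpotent ↥(R : Subgroup H) := R.2.isNilpotent
    have h1 : Q.subgroupOf (R : Subgroup H) < ⊤ := by
      rw [lt_top_iff_ne_top]
      intro h2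
      exact hne (le_antisymm hR (subgroupOf_eq_top.1 h2))
    have h2 := Group.normalizerCondition_of_isNilpotent (G := ↥(R : Subgroup H)) _ h1
    obtain ⟨x, hx1, hx2⟩ := SetLike.exists_of_lt h2
    set g : G := ((x : H) : G) with hg
    have hgP : ∀ y ∈ P', g * y * g⁻¹ ∈ P' := by
      intro y hy
      have h3 : (⟨⟨y, hP'H hy⟩, hR (mem_subgroupOf.2 hy)⟩ : ↥(R : Subgroup H)) ∈ Q.subgroupOf (R : Subgroup H) := by
        rw [mem_subgroupOf, hQ, mem_subgroupOf]
        exact hy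
      have h4 := (mem_normalizer_iff.1 hx1 _).1 h3
      rw [mem_subgroupOf, hQ, mem_subgroupOf] at h4
      exact h4
    have hgK : ∀ k ∈ K, g * k * g⁻¹ ∈ K := by
      intro k hk
      obtain ⟨x1, y1, h3, h4, h5, h6, m, h7⟩ := exists_parts k
      have h8 : zpowers k ≤ K := (zpowers_le).2 hk
      have h9 : g * x1 * g⁻¹ = x1 := by
        have h10 : g ∈ H := (x : H).2
        rw [hH, mem_centralizer_iff] at h10
        rw [← h10 x1 ⟨h8 h4, h6⟩, mul_inv_cancel_right]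
      have h11 : g * k * g⁻¹ = (g * x1 * g⁻¹) * (g * y1 * g⁻¹) := by rw [h3]; group
      rw [h11, h9]
      exact K.mul_mem (h8 h4) (hP'K (hgP y1 (hmem (h8 h5) h7)))
    have hgN : g ∈ normalizer (K : Set G) := by
      rw [← conj_smul_eq_iff_mem_normalizer]
      have h3 : MulAut.conj g • K ≤ K := by
        rintro _ ⟨k, hk, rfl⟩
        exact hgK k hk
      exact eq_of_le_of_card_ge h3 (by rw [Nat.card_congr (K.equivSMul (MulAut.conj g)).toEquiv])
    rw [hK.2] at hgN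
    apply hx2
    rw [mem_subgroupOf, hQ, mem_subgroupOf]
    obtain ⟨m, hm⟩ := R.2 x
    exact hmem hgN (congrArg (fun z : (R : Subgroup H) => ((z : H) : G)) hm)
  -- `a` lies in a conjugate of `R`
  have haH : a ∈ H := by
    rw [hH, mem_centralizer_iff]
    rintro k ⟨hk, hko⟩
    exact h k hk hko
  have h1 : IsPGroup 2 (zpowers (⟨a, haH⟩ : H)) := by
    refine IsPGroup.of_card (n := 1) ?_
    rw [Nat.card_zpowers, Subgroup.orderOf_mk, ha2, pow_one]
  obtain ⟨R', hR'⟩ := h1.exists_le_sylow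
  obtain ⟨g, hg⟩ := MulAction.exists_smul_eq H R R'
  have h2 : (⟨a, haH⟩ : H) ∈ (R' : Subgroup H) := hR' (mem_zpowers _)
  rw [← hg, Sylow.coe_subgroup_smul, mem_conj_smul_iff, ← hQR, hQ, mem_subgroupOf] at h2
  have h3 : (g : G)⁻¹ * a * g ∈ P' := h2
  have h4 : (g : G)⁻¹ * a * g ∈ K ⊓ S := by
    refine ⟨hP'K h3, ?_⟩
    have := ‹S.Normal›.conj_mem a haS (g : G)⁻¹
    rwa [inv_inv] at this
  have h5 : orderOf (⟨(g : G)⁻¹ * a * g, h4⟩ : ↥(K ⊓ S)) = 2 := by
    rw [Subgroup.orderOf_mk]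
    have h6 : (g : G)⁻¹ * a * g = MulAut.conj (g : G)⁻¹ a := by rw [MulAut.conj_apply, inv_inv]
    rw [h6]
    exact (orderOf_injective (MulAut.conj (g : G)⁻¹).toMonoidHom (MulAut.conj (g : G)⁻¹).injective a).trans ha2
  rw [← h5]
  exact orderOf_dvd_natCard _

theorem even_six (hFp : Fpf.{u}) (c : Ctx G S) {X : Type} [Group X] (e : S ≃* X) {r : ℕ} [hr : Fact r.Prime]
    (hr2 : r ≠ 2) (hZ : H607.Car.InvZ r X) (hSyl : SylInv r X) {K : Subgroup G} (hK : IsCarter K) :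
    2 ∣ Nat.card ↥(K ⊓ S) := by
  by_contra hn
  refine hn (even_of_sylInv hFp c e hr2 hSyl hK fun l hl hld => ?_)
  by_contra hne
  push Not at hne
  obtain ⟨hl2, hlr⟩ := hne
  haveI : Fact l.Prime := ⟨hl⟩
  obtain ⟨z, hzS, hzK, hz, hKz⟩ := exists_central (S := S) hK.1 hld
  have hoz : orderOf (e ⟨z, hzS⟩) = l := by rw [MulEquiv.orderOf_eq, Subgroup.orderOf_mk, hz]
  have hrig : H607.Car.Rigid (e ⟨z, hzS⟩) := by
    intro g hg
    obtain ⟨i, hi⟩ := mem_zpowers_iff.1 hg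
    have h1 : (⟨z, hzS⟩ : S) ^ i = e.symm g * ⟨z, hzS⟩ * (e.symm g)⁻¹ := by
      apply e.injective
      rw [map_zpow, hi, map_mul, map_mul, map_inv, e.apply_symm_apply]
    have h2 : z ^ i = (e.symm g : S) * z * ((e.symm g : S) : G)⁻¹ := congrArg Subtype.val h1
    have h3 := c.eq_of_conj hK hKz (g := ((e.symm g : S) : G)) (by
      rw [← h2]
      intro k hk
      have h4 : Commute k z := mem_centralizer_singleton_iff.1 (hKz hk)
      exact mem_centralizer_singleton_iff.2 (h4.zpow_right i).eq)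
    rw [← hi, ← map_zpow]
    congr 1
    exact Subtype.ext (h2.trans h3)
  obtain ⟨a, ha2, ha⟩ := hZ (e ⟨z, hzS⟩) (hoz ▸ hl) (by rw [hoz]; exact hl2) (by rw [hoz]; exact hlr) hrig
  refine hn (even_of_fix hK (a := ((e.symm a : S) : G)) (e.symm a).2 ?_ ?_)
  · rw [Subgroup.orderOf_coe, MulEquiv.orderOf_eq, ha2]
  · intro k hk hko
    let α : MulAut X := (MulAut.congr e) (MulAut.conjNormal k)
    have hαa : ∀ x, α x = e (MulAut.conjNormal k (e.symm x)) := fun x => rfl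
    have hαo : Odd (orderOf α) := by
      refine Odd.of_dvd_nat hko (orderOf_dvd_of_pow_eq_one ?_)
      change (MulAut.congr e) (MulAut.conjNormal k) ^ orderOf k = 1
      rw [← map_pow, ← map_pow, pow_orderOf_eq_one, map_one, map_one]
    have h1 : α (e ⟨z, hzS⟩) = e ⟨z, hzS⟩ := by
      rw [hαa, e.symm_apply_apply]
      congr 1
      apply Subtype.ext
      rw [MulAut.conjNormal_apply]
      change k * z * k⁻¹ = z
      rw [mem_centralizer_singleton_iff.1 (hKz hk), mul_inv_cancel_right]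
    have h2 := ha α hαo h1
    rw [hαa] at h2
    have h3 : (MulAut.conjNormal k (e.symm a) : S) = e.symm a := by
      apply e.injective
      rw [h2, e.apply_symm_apply]
    have h4 := congrArg Subtype.val h3
    rw [MulAut.conjNormal_apply] at h4
    exact mul_inv_eq_iff_eq_mul.1 h4

/-- **The row `E₆^ε(q)`, `q` odd.** -/
theorem row_six (hFp : Fpf.{u}) (c : Ctx G S) {X : Type} [Group X] (e : S ≃* X) {r : ℕ} [hr : Fact r.Prime]
    (hr2 : r ≠ 2) (hZ : H607.Car.InvZ r X) (hSyl : SylInv r X) {t0 : X} (hcl : H607.Car.InvCl X t0)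
    (h6 : H607.Car.SixJ X t0) : Row G S := by
  have hev : ∀ K : Subgroup G, IsCarter K → 2 ∣ Nat.card ↥(K ⊓ S) := fun K hK => even_six hFp c e hr2 hZ hSyl hK
  refine ⟨wtAll_of_even hev, ?_⟩
  intro K H hK hH
  haveI : Fact (Nat.Prime 2) := ⟨Nat.prime_two⟩
  obtain ⟨s, hsS, hsK, hs2, hKs⟩ := exists_central (S := S) hK.1 (hev K hK)
  obtain ⟨t, htS, htH, ht2, hHt⟩ := exists_central (S := S) hH.1 (hev H hH)
  have hs0 : ¬ IsConj (e ⟨s, hsS⟩) t0 := fun h => no_six hFp c e h6 hK hsS hKs h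
  have ht0 : ¬ IsConj (e ⟨t, htS⟩) t0 := fun h => no_six hFp c e h6 hH htS hHt h
  have h1 := hcl.2 (e ⟨s, hsS⟩) (e ⟨t, htS⟩) (by rw [MulEquiv.orderOf_eq, Subgroup.orderOf_mk, hs2])
    (by rw [MulEquiv.orderOf_eq, Subgroup.orderOf_mk, ht2]) hs0 ht0
  obtain ⟨x, hx⟩ := isConj_iff.1 h1
  have h2 : e.symm x * ⟨s, hsS⟩ * (e.symm x)⁻¹ = ⟨t, htS⟩ := by
    apply e.injective
    rw [map_mul, map_mul, map_inv, e.apply_symm_apply, hx]
  have h3 : (e.symm x : S) * s * ((e.symm x : S) : G)⁻¹ = t := congrArg Subtype.val h2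
  refine c.conj_of_cent hK hH (z := s) ?_ hKs (g := ((e.symm x : S) : G)) (by rw [h3]; exact hHt)
  rintro rfl
  rw [orderOf_one] at hs2
  exact absurd hs2 (by norm_num)

end

end Cfsg.Agent.H308.Car
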